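import Cfsg.Agent.CharDeep.PowerDegrees
import Cfsg.Agent.CharDeep.CliffordCorr
import Cfsg.Agent.Characters.DegreeBounds
import Cfsg.Agent.Characters.Linear
import Cfsg.Agent.CharactersDeep.NormalInd
import Cfsg.Agent.S0157

/-!
# Character lemmas for the symmetric group degree problem (S4905, task 68)
-/

set_option autoImplicit false

namespace Cfsg.Agent.H621.SymDeg

open Cfsg Cfsg.Agent.Characters.Core Cfsg.Agent.CharDeep
open scoped ComplexConjugate commutatorElement

universe u

theorem degree_le_index_mul {G : Type u} [Group G] [Fintype G] (H : Subgroup G) [Fintype H] {χ : G → ℂ}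
    (hχ : IsIrrCharacter G χ) {ψ : H → ℂ} (hψ : IsIrrCharacter H ψ)
    (h : classInner (fun n : H => χ n) ψ ≠ 0) {a b : ℕ} (ha : χ 1 = a) (hb : ψ 1 = b) :
    a ≤ H.index * b := by
  classical
  have := finite_irr (G := G)
  have := Fintype.ofFinite (IrrCharacter G)
  obtain ⟨c, hc, hc'⟩ := CliffordCorr.exists_nat_coeffs_indFun H (isIrr_isCharacter hψ)
  choose d hd0 hd using fun η : IrrCharacter G => isIrr_apply_one η.2
  have h1 := congrFun hc 1
  rw [CharactersDeep.NormalInd.indFun_one, hb, Finset.sum_apply] at h1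
  simp only [Pi.smul_apply, smul_eq_mul, hd] at h1
  have h2 : H.index * b = ∑ η : IrrCharacter G, c η * d η := by exact_mod_cast h1
  have h3 : c ⟨χ, hχ⟩ ≠ 0 := by
    intro h0
    apply h
    have h4 := hc' ⟨χ, hχ⟩
    rw [h0, Nat.cast_zero] at h4
    have h5 := classInner_conj_symm (G := H) ψ (fun n : H => χ n)
    rw [← h5]
    simp only at h4
    rw [h4, map_zero]
  have h4 : d ⟨χ, hχ⟩ = a := by
    have := hd ⟨χ, hχ⟩
    simp only [ha] at this
    exact_mod_cast this.symm
  rw [h2]
  calc a = 1 * d ⟨χ, hχ⟩ := by rw [h4, one_mul]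
    _ ≤ c ⟨χ, hχ⟩ * d ⟨χ, hχ⟩ := Nat.mul_le_mul_right _ (Nat.one_le_iff_ne_zero.2 h3)
    _ ≤ _ := Finset.single_le_sum (f := fun η => c η * d η) (fun _ _ => Nat.zero_le _)
      (Finset.mem_univ _)

theorem exists_over {G : Type u} [Group G] [Finite G] {H : Subgroup G} (hi : H.index = 2) {ψ : H → ℂ}
    (hψ : IsIrrCharacter H ψ) : ∃ χ : G → ℂ, IsIrrCharacter G χ ∧ (χ 1 = ψ 1 ∨ χ 1 = 2 * ψ 1) := by
  classical
  have : Fintype G := Fintype.ofFinite G
  have : Fintype H := Fintype.ofFinite H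
  have hN : H.Normal := Subgroup.normal_of_index_eq_two hi
  obtain ⟨χ, hχ, hne⟩ := PowerDegrees.exists_irr_over H hψ
  obtain ⟨m, hm⟩ := PowerDegrees.degree_dvd H hχ hψ hne
  obtain ⟨a, ha0, ha⟩ := isIrr_apply_one hχ
  obtain ⟨b, hb0, hb⟩ := isIrr_apply_one hψ
  have h1 := degree_le_index_mul H hχ hψ hne ha hb
  rw [hi] at h1
  have h2 : a = m * b := by
    rw [ha, hb] at hm
    exact_mod_cast hm
  have h3 : m ≤ 2 := by
    rw [h2] at h1
    exact Nat.le_of_mul_le_mul_right h1 hb0
  refine ⟨χ, hχ, ?_⟩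
  rcases (by omega : m = 0 ∨ m = 1 ∨ m = 2) with rfl | rfl | rfl
  · omega
  · left; rw [hm]; push_cast; ring
  · right; rw [hm]; push_cast; ring

/-- all irreducible degrees are at most the index of an abelian subgroup -/
theorem degree_le_of_comm {G : Type u} [Group G] [Finite G] {χ : G → ℂ} (hχ : IsIrrCharacter G χ)
    (A : Subgroup G) (hA : ∀ a ∈ A, ∀ b ∈ A, a * b = b * a) {d : ℕ} (hd : χ 1 = d) : d ≤ A.index := by
  obtain ⟨n, ρ, hρ, rfl⟩ := hχ
  have h1 := Characters.DegreeBounds.finrank_le_index_of_comm ρ A hA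
  have h2 : (Module.finrank ℂ (Fin n → ℂ) : ℂ) = d := by
    rw [← hd, Representation.char_one]
  have h3 : Module.finrank ℂ (Fin n → ℂ) = d := by exact_mod_cast h2
  rwa [h3] at h1

theorem perfect_of_degrees {G : Type u} [Group G] [Finite G] (h2 : ∀ χ : G → ℂ, IsIrrCharacter G χ → χ 1 ≠ 2)
    (hi : (commutator G).index = 2) : commutator ↥(commutator G) = ⊤ := by
  classical
  set H := commutator G with hH
  let K : Subgroup G := ⁅H, H⁆
  have hKn : K.Normal := by
    have : H.Normal := by rw [hH]; infer_instance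
    exact Subgroup.commutator_normal H H
  have hKH : K ≤ H := Subgroup.commutator_le_self H
  -- all irreducible characters of G ⧸ K are linear
  have hlin : ∀ χ : IrrCharacter (G ⧸ K), (χ : G ⧸ K → ℂ) 1 = 1 := by
    intro χ
    obtain ⟨d, hd0, hd⟩ := isIrr_apply_one χ.2
    have h3 : IsIrrCharacter G ((χ : G ⧸ K → ℂ) ∘ QuotientGroup.mk' K) :=
      isIrr_comp (QuotientGroup.mk' K) (QuotientGroup.mk'_surjective K) χ.2
    have h4 := h2 _ h3
    rw [Function.comp_apply, map_one, hd] at h4
    have h5 : d ≤ (H.map (QuotientGroup.mk' K)).index := by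
      refine degree_le_of_comm χ.2 _ ?_ hd
      rintro _ ⟨a, ha, rfl⟩ _ ⟨b, hb, rfl⟩
      rw [← map_mul, ← map_mul]
      rw [QuotientGroup.mk'_apply, QuotientGroup.mk'_apply, QuotientGroup.eq]
      have h6 : (a * b)⁻¹ * (b * a) = ⁅b⁻¹, a⁻¹⁆ := by
        rw [commutatorElement_def]; group
      rw [h6]
      exact Subgroup.commutator_mem_commutator (H.inv_mem hb) (H.inv_mem ha)
    have h6 : (H.map (QuotientGroup.mk' K)).index = 2 := by
      rw [Subgroup.index_map, QuotientGroup.ker_mk', sup_eq_left.2 hKH, hi,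
        MonoidHom.range_eq_top.2 (QuotientGroup.mk'_surjective K), Subgroup.index_top]
    rw [h6] at h5
    have h7 : d ≠ 2 := by
      intro h; apply h4; rw [h]; norm_num
    rw [hd]
    have : d = 1 := by omega
    rw [this]; norm_num
  have hcomm := PowerDegrees.comm_of_forall_linear hlin
  have hHK : H ≤ K := by
    rw [hH, commutator_def, Subgroup.commutator_le]
    intro a _ b _
    have h3 := hcomm (QuotientGroup.mk' K b⁻¹) (QuotientGroup.mk' K a⁻¹)
    rw [← map_mul, ← map_mul, QuotientGroup.mk'_apply, QuotientGroup.mk'_apply,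
      QuotientGroup.eq] at h3
    have h6 : (b⁻¹ * a⁻¹)⁻¹ * (a⁻¹ * b⁻¹) = ⁅a, b⁆ := by
      rw [commutatorElement_def]; group
    rwa [h6] at h3
  have hKeq : K = H := le_antisymm hKH hHK
  have h3 : (commutator ↥H).map H.subtype = H := by
    rw [commutator_def, Subgroup.map_commutator, ← MonoidHom.range_eq_map, H.range_subtype]
    exact hKeq
  apply Subgroup.map_injective H.subtype_injective
  rw [h3, ← MonoidHom.range_eq_map, H.range_subtype]

/-- a linear character of a perfect group is trivial -/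
theorem eq_one_of_perfect {T : Type u} [Group T] [Finite T] (hT : commutator T = ⊤) {χ : T → ℂ}
    (hχ : IsIrrCharacter T χ) (h1 : χ 1 = 1) : χ = 1 := by
  obtain ⟨f, rfl⟩ := Characters.Linear.exists_hom_of_isIrrCharacter hχ h1
  funext g
  have hg : g ∈ commutator T := by rw [hT]; exact Subgroup.mem_top g
  have h2 : f g = 1 := Abelianization.commutator_subset_ker f hg
  simp [h2]

theorem exists_irr_not_dvd {T : Type u} [Group T] [Finite T] (hT : commutator T = ⊤) {r : ℕ} (hr : r.Prime)
    (h : r ∣ Nat.card T) : ∃ (ψ : T → ℂ) (d : ℕ), IsIrrCharacter T ψ ∧ ψ 1 = d ∧ 1 < d ∧ ¬ r ∣ d ∧ d ∣ Nat.card T ∧ d * d < Nat.card T := by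
  classical
  have := finite_irr (G := T)
  have := Fintype.ofFinite (IrrCharacter T)
  choose d hd0 hd using fun η : IrrCharacter T => isIrr_apply_one η.2
  have hsum : ∑ η : IrrCharacter T, d η ^ 2 = Nat.card T := by
    have h1 := PowerDegrees.sum_sq (G := T)
    simp only [hd] at h1
    exact_mod_cast h1
  let o : IrrCharacter T := ⟨1, isIrr_one⟩
  have ho : d o = 1 := by
    have h1 := hd o
    have h2 : (o : T → ℂ) 1 = 1 := rfl
    rw [h2] at h1
    exact_mod_cast h1.symm
  rw [← Finset.add_sum_erase _ _ (Finset.mem_univ o), ho, one_pow] at hsum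
  have hex : ∃ η : IrrCharacter T, η ≠ o ∧ ¬ r ∣ d η := by
    by_contra hcon
    push Not at hcon
    have h1 : r ∣ ∑ η ∈ Finset.univ.erase o, d η ^ 2 :=
      Finset.dvd_sum fun η hη => dvd_pow (hcon η (Finset.ne_of_mem_erase hη)) two_ne_zero
    rw [← hsum] at h
    have h2 := (Nat.dvd_add_left h1).1 h
    exact hr.one_lt.ne' (Nat.dvd_one.1 h2)
  obtain ⟨η, hηo, hη⟩ := hex
  have hdvd : d η ∣ Nat.card T := by
    obtain ⟨n, ρ, hρ, hρ'⟩ := η.2
    have h1 := Characters.DegreeBounds.finrank_dvd_card ρ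
    have h2 : (Module.finrank ℂ (Fin n → ℂ) : ℂ) = d η := by
      rw [← hd, ← hρ', Representation.char_one]
    have h3 : Module.finrank ℂ (Fin n → ℂ) = d η := by exact_mod_cast h2
    rwa [h3] at h1
  have h1 : d η ≠ 1 := by
    intro h0
    apply hηo
    apply Subtype.ext
    apply eq_one_of_perfect hT η.2
    rw [hd, h0]; norm_num
  refine ⟨η, d η, η.2, hd η, ?_, hη, hdvd, ?_⟩
  · have := hd0 η; omega
  · have h2 : d η ^ 2 ≤ ∑ η ∈ Finset.univ.erase o, d η ^ 2 :=
      Finset.single_le_sum (f := fun η => d η ^ 2) (fun _ _ => Nat.zero_le _)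
        (Finset.mem_erase.2 ⟨hηo, Finset.mem_univ _⟩)
    rw [pow_two] at h2
    omega

theorem exists_sum_index {T : Type u} [Group T] [Finite T] (K : Subgroup T) : ∃ s : Multiset (T → ℂ),
    (∀ ψ ∈ s, IsIrrCharacter T ψ ∧ ψ ≠ 1) ∧ (s.map fun ψ => ψ 1).sum = (K.index : ℂ) - 1 := by
  classical
  have : Fintype T := Fintype.ofFinite T
  have : Fintype K := Fintype.ofFinite K
  have := finite_irr (G := T)
  have := Fintype.ofFinite (IrrCharacter T)
  obtain ⟨c, hc, hc'⟩ := CliffordCorr.exists_nat_coeffs_indFun K (isCharacter_one (G := K))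
  let o : IrrCharacter T := ⟨1, isIrr_one⟩
  have ho : c o = 1 := by
    have h1 := hc' o
    have h2 : (fun h : K => (o : T → ℂ) h) = 1 := rfl
    rw [h2, classInner_irr_self isIrr_one] at h1
    exact_mod_cast h1.symm
  refine ⟨∑ η ∈ Finset.univ.erase o, c η • {(η : T → ℂ)}, ?_, ?_⟩
  · intro ψ hψ
    rw [Multiset.mem_sum] at hψ
    obtain ⟨η, hη, hψ⟩ := hψ
    have h1 : ψ = η := by
      have := Multiset.mem_of_mem_nsmul hψ
      simpa using this
    refine ⟨h1 ▸ η.2, fun h => Finset.ne_of_mem_erase hη (Subtype.ext ?_)⟩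
    rw [← h1, h]
  · have h1 := congrFun hc 1
    rw [CharactersDeep.NormalInd.indFun_one, Finset.sum_apply,
      ← Finset.add_sum_erase _ _ (Finset.mem_univ o), ho] at h1
    simp only [Pi.smul_apply, smul_eq_mul, Pi.one_apply, mul_one, Nat.cast_one, one_mul] at h1
    have h2 : (o : T → ℂ) 1 = 1 := rfl
    rw [h2] at h1
    rw [h1, add_sub_cancel_left]
    have h3 : ∀ s : Finset (IrrCharacter T), (Multiset.map (fun ψ : T → ℂ => ψ 1)
        (∑ η ∈ s, c η • {(η : T → ℂ)})).sum = ∑ η ∈ s, (c η : ℂ) * (η : T → ℂ) 1 := by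
      intro s
      induction s using Finset.induction_on with
      | empty => simp
      | insert a s ha ih =>
        rw [Finset.sum_insert ha, Finset.sum_insert ha, Multiset.map_add, Multiset.sum_add, ih,
          Multiset.map_nsmul, Multiset.sum_nsmul, Multiset.map_singleton, Multiset.sum_singleton,
          nsmul_eq_mul]
    exact h3 _

theorem alt_irr {m : ℕ} (hm : 5 ≤ m) {T : Type u} [Group T] (e : T ≃* alternatingGroup (Fin m)) :
    ∃ ψ : T → ℂ, IsIrrCharacter T ψ ∧ ψ 1 = ((m - 1 : ℕ) : ℂ) := by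
  have h2 : MulAction.IsMultiplyPretransitive (alternatingGroup (Fin m)) (Fin m) 2 := by
    have := alternatingGroup.isMultiplyPretransitive (Fin m)
    rw [Nat.card_eq_fintype_card, Fintype.card_fin] at this
    exact MulAction.isMultiplyPretransitive_of_le (n := m - 2) (by omega) (by
      rw [Nat.card_eq_fintype_card, Fintype.card_fin]; omega)
  have h1 : MulAction.IsPretransitive (alternatingGroup (Fin m)) (Fin m) := by
    rw [← MulAction.is_one_pretransitive_iff]
    have := alternatingGroup.isMultiplyPretransitive (Fin m)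
    rw [Nat.card_eq_fintype_card, Fintype.card_fin] at this
    exact MulAction.isMultiplyPretransitive_of_le (n := m - 2) (by omega) (by
      rw [Nat.card_eq_fintype_card, Fintype.card_fin]; omega)
  have h3 := (Cfsg.Agent.S0157.result (G := alternatingGroup (Fin m)) (Fin m)
    (by rw [Nat.card_eq_fintype_card, Fintype.card_fin]; omega)).2 h2
  refine ⟨_, isIrr_comp e.toMonoidHom e.surjective h3, ?_⟩
  rw [Function.comp_apply, map_one]
  have h4 : Nat.card (MulAction.fixedBy (Fin m) (1 : alternatingGroup (Fin m))) = m := by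
    rw [MulAction.fixedBy_one_eq_univ, Nat.card_coe_set_eq, Set.ncard_univ,
      Nat.card_eq_fintype_card, Fintype.card_fin]
  rw [h4, Nat.cast_sub (by omega)]
  norm_num

end Cfsg.Agent.H621.SymDeg
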