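import Mathlib

/-!
# Counting commuting pairs in a group with a subgroup of index two
-/

set_option autoImplicit false

namespace Cfsg.Agent.H621.SymDeg

open scoped commutatorElement

/-- commuting pairs -/
abbrev CP (X : Type*) [Group X] : Type _ := {p : X × X // Commute p.1 p.2}

theorem cp_congr {X Y : Type*} [Group X] [Group Y] (e : X ≃* Y) : Nat.card (CP X) = Nat.card (CP Y) := by
  refine Nat.card_congr ⟨fun p => ⟨(e p.1.1, e p.1.2), ?_⟩, fun p => ⟨(e.symm p.1.1, e.symm p.1.2), ?_⟩, ?_, ?_⟩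
  · exact p.2.map e.toMonoidHom
  · exact p.2.map e.symm.toMonoidHom
  · intro p; simp
  · intro p; simp

theorem cp_le_of_central {G : Type*} [Group G] [Finite G] (H : Subgroup G) {c : G}
    (hc : c ∉ H) (hcomm : ∀ h ∈ H, h * c = c * h) : 4 * Nat.card (CP H) ≤ Nat.card (CP G) := by
  classical
  have h1 : 4 * Nat.card (CP H) = Nat.card ((Bool × Bool) × CP H) := by
    rw [Nat.card_prod, Nat.card_prod]; simp
  rw [h1]
  let pw : Bool → G := fun b => cond b c 1
  have hpw : ∀ (b : Bool) (h : H), (h : G) * pw b = pw b * h := by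
    intro b h
    cases b
    · simp [pw]
    · exact hcomm h h.2
  have hpp : ∀ b b' : Bool, pw b * pw b' = pw b' * pw b := by
    intro b b'
    cases b <;> cases b' <;> simp [pw]
  have hinj : ∀ (b b' : Bool) (h h' : H), (h : G) * pw b = h' * pw b' → b = b' ∧ h = h' := by
    intro b b' h h' he
    cases b <;> cases b'
    · refine ⟨rfl, ?_⟩
      simpa [pw] using he
    · exfalso
      simp only [pw, cond_false, cond_true, mul_one] at he
      apply hc
      have : c = (h' : G)⁻¹ * h := by rw [he]; group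
      rw [this]
      exact H.mul_mem (H.inv_mem h'.2) h.2
    · exfalso
      simp only [pw, cond_false, cond_true, mul_one] at he
      apply hc
      have : c = (h : G)⁻¹ * h' := by rw [← he]; group
      rw [this]
      exact H.mul_mem (H.inv_mem h.2) h'.2
    · refine ⟨rfl, ?_⟩
      simpa [pw] using he
  let f : (Bool × Bool) × CP H → CP G := fun q =>
    ⟨((q.2.1.1 : G) * pw q.1.1, (q.2.1.2 : G) * pw q.1.2), by
      have h2 : (q.2.1.1 : G) * q.2.1.2 = q.2.1.2 * q.2.1.1 := by
        have := q.2.2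
        exact congrArg Subtype.val this.eq
      change (q.2.1.1 : G) * pw q.1.1 * ((q.2.1.2 : G) * pw q.1.2) =
        (q.2.1.2 : G) * pw q.1.2 * ((q.2.1.1 : G) * pw q.1.1)
      calc (q.2.1.1 : G) * pw q.1.1 * ((q.2.1.2 : G) * pw q.1.2)
          = (q.2.1.1 : G) * (pw q.1.1 * (q.2.1.2 : G)) * pw q.1.2 := by group
        _ = (q.2.1.1 : G) * ((q.2.1.2 : G) * pw q.1.1) * pw q.1.2 := by rw [hpw]
        _ = ((q.2.1.1 : G) * q.2.1.2) * (pw q.1.1 * pw q.1.2) := by group
        _ = ((q.2.1.2 : G) * q.2.1.1) * (pw q.1.2 * pw q.1.1) := by rw [h2, hpp]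
        _ = (q.2.1.2 : G) * ((q.2.1.1 : G) * pw q.1.2) * pw q.1.1 := by group
        _ = (q.2.1.2 : G) * (pw q.1.2 * (q.2.1.1 : G)) * pw q.1.1 := by rw [hpw]
        _ = _ := by group⟩
  apply Nat.card_le_card_of_injective f
  rintro ⟨⟨b1, b2⟩, ⟨⟨x, y⟩, hxy⟩⟩ ⟨⟨b1', b2'⟩, ⟨⟨x', y'⟩, hxy'⟩⟩ h
  have h2 := congrArg Subtype.val h
  simp only [f, Prod.mk.injEq] at h2
  obtain ⟨rfl, rfl⟩ := hinj _ _ _ _ h2.1
  obtain ⟨rfl, rfl⟩ := hinj _ _ _ _ h2.2
  rfl

theorem cp_lt {G : Type*} [Group G] [Finite G] (A : Subgroup G) (hA : A.index = 2) {x₀ : G} (hx₀ : x₀ ∈ A)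
    (hc : ∀ y, x₀ * y = y * x₀ → y ∈ A) : Nat.card (CP G) < 4 * Nat.card (CP A) := by
  classical
  have := Fintype.ofFinite G
  have hmul : ∀ a b : G, a * b ∈ A ↔ (a ∈ A ↔ b ∈ A) := fun a b => Subgroup.mul_mem_iff_of_index_two hA
  let S : Finset (G × G) := Finset.univ.filter fun p => p.1 * p.2 = p.2 * p.1
  let EE := S.filter fun p => p.1 ∈ A ∧ p.2 ∈ A
  let EO := S.filter fun p => p.1 ∈ A ∧ p.2 ∉ A
  let OE := S.filter fun p => p.1 ∉ A ∧ p.2 ∈ A
  let OO := S.filter fun p => p.1 ∉ A ∧ p.2 ∉ A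
  have hS : Nat.card (CP G) = S.card := by
    rw [Nat.card_eq_fintype_card, Fintype.card_subtype]
    rfl
  have hEE : Nat.card (CP A) = EE.card := by
    rw [Nat.card_eq_fintype_card, ← Fintype.card_coe]
    refine Fintype.card_congr ⟨fun p => ⟨((p.1.1 : G), (p.1.2 : G)), ?_⟩, fun p =>
      ⟨(⟨p.1.1, ?_⟩, ⟨p.1.2, ?_⟩), ?_⟩, ?_, ?_⟩
    · have := congrArg Subtype.val p.2.eq
      simp only [EE, S, Finset.mem_filter, Finset.mem_univ, true_and]
      exact ⟨this, p.1.1.2, p.1.2.2⟩
    · have := p.2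
      simp only [EE, S, Finset.mem_filter, Finset.mem_univ, true_and] at this
      exact this.2.1
    · have := p.2
      simp only [EE, S, Finset.mem_filter, Finset.mem_univ, true_and] at this
      exact this.2.2
    · have := p.2
      simp only [EE, S, Finset.mem_filter, Finset.mem_univ, true_and] at this
      exact Subtype.ext this.1
    · intro p; rfl
    · intro p; rfl
  have hsum : S.card = EE.card + EO.card + (OE.card + OO.card) := by
    rw [← Finset.card_filter_add_card_filter_not (s := S) (fun p => p.1 ∈ A),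
      ← Finset.card_filter_add_card_filter_not (s := S.filter fun p => p.1 ∈ A) (fun p => p.2 ∈ A),
      ← Finset.card_filter_add_card_filter_not (s := S.filter fun p => ¬ p.1 ∈ A) (fun p => p.2 ∈ A)]
    simp only [Finset.filter_filter]
    rfl
  -- OO ≤ OE
  have h1 : OO.card ≤ OE.card := by
    apply Finset.card_le_card_of_injOn (fun p => (p.1, p.2 * p.1))
    · intro p hp
      simp only [OO, OE, S, Finset.coe_filter, Finset.mem_filter, Finset.mem_univ, true_and,
        Set.mem_setOf_eq] at hp ⊢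
      obtain ⟨h, h1, h2⟩ := hp
      refine ⟨?_, h1, ?_⟩
      · rw [← mul_assoc, h]
      · rw [hmul]; tauto
    · intro p _ q _ h
      simp only [Prod.mk.injEq] at h
      obtain ⟨h1, h2⟩ := h
      rw [h1] at h2
      exact Prod.ext h1 (mul_right_cancel h2)
  -- OE ≤ EO
  have h2 : OE.card ≤ EO.card := by
    apply Finset.card_le_card_of_injOn (fun p => (p.2, p.1))
    · intro p hp
      simp only [EO, OE, S, Finset.coe_filter, Finset.mem_filter, Finset.mem_univ, true_and,
        Set.mem_setOf_eq] at hp ⊢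
      exact ⟨hp.1.symm, hp.2.2, hp.2.1⟩
    · intro p _ q _ h
      simp only [Prod.mk.injEq] at h
      exact Prod.ext h.2 h.1
  -- EO < EE
  have h3 : EO.card < EE.card := by
    let y₀ : G → G := fun x => if h : ∃ y, x * y = y * x ∧ y ∉ A then h.choose else 1
    have hy₀ : ∀ x, (∃ y, x * y = y * x ∧ y ∉ A) → x * y₀ x = y₀ x * x ∧ y₀ x ∉ A := by
      intro x h
      simp only [y₀]
      rw [dif_pos h]
      exact h.choose_spec
    let g : G × G → G × G := fun p => (p.1, p.2 * y₀ p.1)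
    have hg : ∀ p ∈ EO, g p ∈ EE.erase (x₀, 1) := by
      intro p hp
      simp only [EO, S, Finset.mem_filter, Finset.mem_univ, true_and] at hp
      obtain ⟨h, h1, h2⟩ := hp
      obtain ⟨h4, h5⟩ := hy₀ p.1 ⟨p.2, h, h2⟩
      rw [Finset.mem_erase]
      constructor
      · intro h6
        have h7 : p.1 = x₀ := congrArg Prod.fst h6
        rw [h7] at h
        exact h2 (hc _ h)
      · simp only [EE, S, g, Finset.mem_filter, Finset.mem_univ, true_and]
        refine ⟨?_, h1, ?_⟩
        · rw [← mul_assoc, h, mul_assoc, h4, mul_assoc]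
        · rw [hmul]; tauto
    have hinj : Set.InjOn g EO := by
      intro p _ q _ h
      simp only [g, Prod.mk.injEq] at h
      obtain ⟨h1, h2⟩ := h
      rw [h1] at h2
      exact Prod.ext h1 (mul_right_cancel h2)
    have h4 := Finset.card_le_card_of_injOn g hg hinj
    have h5 : (x₀, (1 : G)) ∈ EE := by
      simp only [EE, S, Finset.mem_filter, Finset.mem_univ, true_and]
      exact ⟨by simp, hx₀, A.one_mem⟩
    rw [Finset.card_erase_of_mem h5] at h4
    have : 0 < EE.card := Finset.card_pos.2 ⟨_, h5⟩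
    omega
  rw [hS, hEE, hsum]
  omega

/-- an element of the alternating group with centralizer in the alternating group -/
theorem exists_alt_cent {n : ℕ} (hn : 3 ≤ n) : ∃ x₀ : Equiv.Perm (Fin n), x₀ ∈ alternatingGroup (Fin n) ∧
    ∀ y, x₀ * y = y * x₀ → y ∈ alternatingGroup (Fin n) := by
  classical
  obtain ⟨k, hk1, hk2, hk3, hk4⟩ : ∃ k, Odd k ∧ 3 ≤ k ∧ k ≤ n ∧ n ≤ k + 1 := by
    rcases Nat.even_or_odd n with h | h
    · refine ⟨n - 1, Nat.Even.sub_odd (by omega) h odd_one, ?_, by omega, by omega⟩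
      obtain ⟨m, hm⟩ := h
      omega
    · exact ⟨n, h, hn, le_refl _, by omega⟩
  obtain ⟨g, hg⟩ := (Equiv.Perm.exists_with_cycleType_iff (Fin n) (m := {k})).2 ⟨by simpa using hk3, by
    intro a ha
    rw [Multiset.mem_singleton] at ha
    omega⟩
  have h := Equiv.Perm.centralizer_le_alternating_iff (g := g).2 ⟨by
    rw [hg]; intro c hc; rw [Multiset.mem_singleton] at hc; rw [hc]; exact hk1, by
    rw [hg]; simpa using hk4, by
    rw [hg]; intro i; exact (Multiset.nodup_iff_count_le_one.1 (Multiset.nodup_singleton k)) i⟩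
  refine ⟨g, h (Subgroup.mem_centralizer_singleton_iff.2 rfl), fun y hy =>
    h (Subgroup.mem_centralizer_singleton_iff.2 ?_)⟩
  exact hy.symm

theorem cp_alt {n : ℕ} (hn : 3 ≤ n) :
    Nat.card (CP (Equiv.Perm (Fin n))) < 4 * Nat.card (CP (alternatingGroup (Fin n))) := by
  have : Nontrivial (Fin n) := Fin.nontrivial_iff_two_le.2 (by omega)
  obtain ⟨x₀, h1, h2⟩ := exists_alt_cent hn
  exact cp_lt _ (alternatingGroup.index_eq_two) h1 h2

end Cfsg.Agent.H621.SymDeg
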